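import Mathlib
import Groth.Agent.Hensel.Decomp
import Groth.Agent.Hensel.LocalPiece
import Groth.Agent.Hensel.Local

/-!
Infinitesimal rigidity of Weierstrass curves with unit discriminant, and descent of variable changes
over complete local domains with algebraically closed residue field.
-/

set_option autoImplicit false
set_option linter.style.haveILetI false
set_option linter.unusedSimpArgs false

universe u v

namespace Groth.Agent.WeierRigid

open WeierstrassCurve

theorem eq_zero_of_lin {L : Type u} [CommRing L] {M : Type v} [AddCommGroup M] [Module L M]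
    (V : WeierstrassCurve L) (hΔ : IsUnit V.Δ) (e r s w : M)
    (E1 : V.a₁ • e = (2 : L) • s) (E2 : (2 * V.a₂) • e = (3 : L) • r - V.a₁ • s)
    (E3 : (3 * V.a₃) • e = V.a₁ • r + (2 : L) • w)
    (E4 : (4 * V.a₄) • e = (2 * V.a₂) • r - V.a₃ • s - V.a₁ • w)
    (E6 : (6 * V.a₆) • e = V.a₄ • r - V.a₃ • w) : e = 0 ∧ r = 0 ∧ s = 0 ∧ w = 0 := by
  let J : Submodule L M := Submodule.span L {e, r, s, w}
  have hmem : e ∈ J ∧ r ∈ J ∧ s ∈ J ∧ w ∈ J :=
    ⟨Submodule.subset_span (by simp), Submodule.subset_span (by simp), Submodule.subset_span (by simp),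
      Submodule.subset_span (by simp)⟩
  suffices hmax : ∀ m : Ideal L, m.IsMaximal → ∃ a ∉ m, a • e = 0 ∧ a • r = 0 ∧ a • s = 0 ∧ a • w = 0 by
    let I : Ideal L := LinearMap.ker ((((LinearMap.toSpanSingleton L M e).prod (LinearMap.toSpanSingleton L M r)).prod
      ((LinearMap.toSpanSingleton L M s).prod (LinearMap.toSpanSingleton L M w))))
    have hI : I = ⊤ := by
      by_contra hne
      obtain ⟨m, hm, hle⟩ := Ideal.exists_le_maximal I hne
      obtain ⟨a, ha, h1, h2, h3, h4⟩ := hmax m hm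
      exact ha (hle (by simp [I, h1, h2, h3, h4]))
    have h1 : (1 : L) ∈ I := hI ▸ Submodule.mem_top
    simp [I] at h1
    exact ⟨h1.1.1, h1.1.2, h1.2.1, h1.2.2⟩
  intro m hm
  have hc : ∀ (c : L) (x : M), c ∉ m → x ∈ J → c • x ∈ m • J → x ∈ m • J := by
    intro c x hc hx hcx
    obtain ⟨b, i, hi, hbi⟩ := hm.exists_inv hc
    rw [show x = b • (c • x) + i • x by rw [smul_smul, ← add_smul, hbi, one_smul]]
    exact add_mem (Submodule.smul_mem _ b hcx) (Submodule.smul_mem_smul hi hx)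
  have hJ : J ≤ m • J → ∃ a ∉ m, a • e = 0 ∧ a • r = 0 ∧ a • s = 0 ∧ a • w = 0 := by
    intro hle
    obtain ⟨a, ha, ha'⟩ := Submodule.exists_sub_one_mem_and_smul_eq_zero_of_fg_of_le_smul m J
      (Submodule.fg_span (Set.toFinite _)) hle
    refine ⟨a, fun h => hm.ne_top ((Ideal.eq_top_iff_one _).mpr ?_), ha' e hmem.1, ha' r hmem.2.1, ha' s hmem.2.2.1,
      ha' w hmem.2.2.2⟩
    simpa using sub_mem h ha
  have hall : e ∈ m • J → r ∈ m • J → s ∈ m • J → w ∈ m • J → J ≤ m • J := fun h1 h2 h3 h4 =>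
    Submodule.span_le.mpr (by
      rintro x (rfl | rfl | rfl | rfl) <;> assumption)
  have hP : V.b₂ • e - (6 : L) • r = 0 := by
    rw [b₂]
    linear_combination (norm := module) (2 : L) • E2 + V.a₁ • E1
  have hQ : (4 * V.b₄) • e - V.b₂ • r = 0 := by
    rw [b₂, b₄]
    linear_combination (norm := module) (2 : L) • E4 + V.a₃ • E1 + V.a₁ • E3
  have hT : (3 * V.b₆) • e - V.b₄ • r = 0 := by
    rw [b₄, b₆]
    linear_combination (norm := module) (2 : L) • E6 + V.a₃ • E3
  have hc4 : V.c₄ • e = 0 := by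
    rw [c₄]
    linear_combination (norm := module) V.b₂ • hP - (6 : L) • hQ
  have hc6 : V.c₆ • e = 0 := by
    rw [c₆]
    rw [c₄] at hc4
    linear_combination (norm := module) -(V.b₂ • hc4) - (72 : L) • hT + (12 * V.b₄) • hP
  have hΔm : V.Δ ∉ m := fun h => hm.ne_top (Ideal.eq_top_of_isUnit_mem _ h hΔ)
  have hz : (0 : M) ∈ m • J := zero_mem _
  have hsm : ∀ (a : L) (x : M), a ∈ m → x ∈ J → a • x ∈ m • J := fun a x ha hx => Submodule.smul_mem_smul ha hx
  by_cases h2 : (2 : L) ∈ m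
  · have h3 : (3 : L) ∉ m := fun h3 => hm.ne_top ((Ideal.eq_top_iff_one _).mpr (by
      have := sub_mem h3 h2
      norm_num at this
      exact this))
    by_cases h1 : V.a₁ ∈ m
    · have h3' : V.a₃ ∉ m := fun h3' => hΔm (by
        have hb2 : V.b₂ ∈ m := by
          rw [b₂, show V.a₁ ^ 2 + 4 * V.a₂ = V.a₁ * V.a₁ + 2 * (2 * V.a₂) by ring]
          exact add_mem (m.mul_mem_left _ h1) (m.mul_mem_right _ h2)
        have hb4 : V.b₄ ∈ m := by
          rw [b₄]; exact add_mem (m.mul_mem_right _ h2) (m.mul_mem_right _ h1)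
        have hb6 : V.b₆ ∈ m := by
          rw [b₆, show V.a₃ ^ 2 + 4 * V.a₆ = V.a₃ * V.a₃ + 2 * (2 * V.a₆) by ring]
          exact add_mem (m.mul_mem_left _ h3') (m.mul_mem_right _ h2)
        rw [WeierstrassCurve.Δ, show -V.b₂ ^ 2 * V.b₈ - 8 * V.b₄ ^ 3 - 27 * V.b₆ ^ 2 + 9 * V.b₂ * V.b₄ * V.b₆ =
          (-V.b₂ * V.b₈ + 9 * V.b₄ * V.b₆) * V.b₂ + (-8 * V.b₄ ^ 2) * V.b₄ + (-27 * V.b₆) * V.b₆ by ring]
        exact add_mem (add_mem (m.mul_mem_left _ hb2) (m.mul_mem_left _ hb4)) (m.mul_mem_left _ hb6))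
      have he : e ∈ m • J := by
        refine hc 3 e h3 hmem.1 (hc V.a₃ _ h3' (J.smul_mem _ hmem.1) ?_)
        rw [smul_smul, mul_comm, E3]
        exact add_mem (hsm _ _ h1 hmem.2.1) (hsm _ _ h2 hmem.2.2.2)
      have hr : r ∈ m • J := by
        refine hc 3 r h3 hmem.2.1 ?_
        rw [show (3 : L) • r = (2 * V.a₂) • e + V.a₁ • s by linear_combination (norm := module) -E2]
        exact add_mem (hsm _ _ (m.mul_mem_right _ h2) hmem.1) (hsm _ _ h1 hmem.2.2.1)
      refine hJ (hall he hr (hc V.a₃ s h3' hmem.2.2.1 ?_) (hc V.a₃ w h3' hmem.2.2.2 ?_))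
      · rw [show V.a₃ • s = (2 * V.a₂) • r - V.a₁ • w - (4 * V.a₄) • e by
          linear_combination (norm := module) E4]
        exact sub_mem (sub_mem (hsm _ _ (m.mul_mem_right _ h2) hmem.2.1) (hsm _ _ h1 hmem.2.2.2))
          (Submodule.smul_mem _ _ he)
      · rw [show V.a₃ • w = V.a₄ • r - (6 * V.a₆) • e by linear_combination (norm := module) E6]
        exact sub_mem (Submodule.smul_mem _ _ hr) (Submodule.smul_mem _ _ he)
    · have he : e ∈ m • J := hc _ e h1 hmem.1 (E1 ▸ hsm _ _ h2 hmem.2.2.1)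
      have hr : r ∈ m • J := by
        refine hc _ r h1 hmem.2.1 ?_
        rw [show V.a₁ • r = (3 * V.a₃) • e - (2 : L) • w by linear_combination (norm := module) -E3]
        exact sub_mem (Submodule.smul_mem _ _ he) (hsm _ _ h2 hmem.2.2.2)
      have hs : s ∈ m • J := by
        refine hc _ s h1 hmem.2.2.1 ?_
        rw [show V.a₁ • s = (3 : L) • r - (2 * V.a₂) • e by linear_combination (norm := module) E2]
        exact sub_mem (Submodule.smul_mem _ _ hr) (Submodule.smul_mem _ _ he)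
      refine hJ (hall he hr hs (hc _ w h1 hmem.2.2.2 ?_))
      rw [show V.a₁ • w = (2 * V.a₂) • r - V.a₃ • s - (4 * V.a₄) • e by linear_combination (norm := module) E4]
      exact sub_mem (sub_mem (Submodule.smul_mem _ _ hr) (Submodule.smul_mem _ _ hs)) (Submodule.smul_mem _ _ he)
  · have hsw : e ∈ m • J → r ∈ m • J → J ≤ m • J := fun he hr => by
      refine hall he hr (hc 2 s h2 hmem.2.2.1 (E1 ▸ Submodule.smul_mem _ _ he)) (hc 2 w h2 hmem.2.2.2 ?_)
      rw [show (2 : L) • w = (3 * V.a₃) • e - V.a₁ • r by linear_combination (norm := module) -E3]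
      exact sub_mem (Submodule.smul_mem _ _ he) (Submodule.smul_mem _ _ hr)
    by_cases h3 : (3 : L) ∈ m
    · by_cases hb : V.b₂ ∈ m
      · have hb4 : V.b₄ ∉ m := fun hb4 => hΔm (by
          rw [WeierstrassCurve.Δ, show -V.b₂ ^ 2 * V.b₈ - 8 * V.b₄ ^ 3 - 27 * V.b₆ ^ 2 + 9 * V.b₂ * V.b₄ * V.b₆ =
            (-V.b₂ * V.b₈ + 9 * V.b₄ * V.b₆) * V.b₂ + (-8 * V.b₄ ^ 2) * V.b₄ + (-9 * V.b₆ ^ 2) * 3 by ring]
          exact add_mem (add_mem (m.mul_mem_left _ hb) (m.mul_mem_left _ hb4)) (m.mul_mem_left _ h3))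
        have h4 : (4 : L) ∉ m := fun h => (hm.isPrime.mem_or_mem (show (2 : L) * 2 ∈ m by norm_num; exact h)).elim h2 h2
        have he : e ∈ m • J := by
          refine hc _ e hb4 hmem.1 (hc 4 _ h4 (J.smul_mem _ hmem.1) ?_)
          rw [smul_smul, show (4 * V.b₄) • e = V.b₂ • r by linear_combination (norm := module) hQ]
          exact hsm _ _ hb hmem.2.1
        refine hJ (hsw he (hc _ r hb4 hmem.2.1 ?_))
        rw [show V.b₄ • r = (3 * V.b₆) • e by linear_combination (norm := module) -hT]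
        exact Submodule.smul_mem _ _ he
      · have hc4m : V.c₄ ∉ m := fun h => hb (hm.isPrime.mem_of_pow_mem 2 (by
          rw [c₄] at h
          have h' := add_mem h (m.mul_mem_right (8 * V.b₄) h3)
          rwa [show V.b₂ ^ 2 - 24 * V.b₄ + 3 * (8 * V.b₄) = V.b₂ ^ 2 by ring] at h'))
        have he : e ∈ m • J := hc _ e hc4m hmem.1 (hc4 ▸ hz)
        refine hJ (hsw he (hc _ r hb hmem.2.1 ?_))
        rw [show V.b₂ • r = (4 * V.b₄) • e by linear_combination (norm := module) -hQ]
        exact Submodule.smul_mem _ _ he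
    · have h6 : (6 : L) ∉ m := fun h => (hm.isPrime.mem_or_mem (show (2 : L) * 3 ∈ m by norm_num; exact h)).elim h2 h3
      have hor : V.c₄ ∉ m ∨ V.c₆ ∉ m := by
        by_contra! h
        have h' : (2 : L) ^ 6 * 3 ^ 3 * V.Δ ∈ m := by
          rw [show (2 : L) ^ 6 * 3 ^ 3 * V.Δ = V.c₄ ^ 2 * V.c₄ - V.c₆ * V.c₆ by
            linear_combination V.c_relation]
          exact sub_mem (m.mul_mem_left _ h.1) (m.mul_mem_left _ h.2)
        rcases hm.isPrime.mem_or_mem h' with h' | h'
        · exact (hm.isPrime.mem_or_mem h').elim (fun k => h2 (hm.isPrime.mem_of_pow_mem _ k))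
            (fun k => h3 (hm.isPrime.mem_of_pow_mem _ k))
        · exact hΔm h'
      have he : e ∈ m • J := hor.elim (fun h => hc _ e h hmem.1 (hc4 ▸ hz)) (fun h => hc _ e h hmem.1 (hc6 ▸ hz))
      refine hJ (hsw he (hc 6 r h6 hmem.2.1 ?_))
      rw [show (6 : L) • r = V.b₂ • e by linear_combination (norm := module) -hP]
      exact Submodule.smul_mem _ _ he

theorem formallyUnramified_of_eq {R : Type u} [CommRing R] {S : Type v} [CommRing S] [Algebra R S]
    (W W' : WeierstrassCurve R) (hΔ' : IsUnit W'.Δ) (C : VariableChange S)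
    (hC : C • W.map (algebraMap R S) = W'.map (algebraMap R S))
    (hgen : Algebra.adjoin R ({(C.u : S), ((C.u⁻¹ : Sˣ) : S), C.r, C.s, C.t} : Set S) = ⊤) :
    Algebra.FormallyUnramified R S := by
  let D := KaehlerDifferential.D R S
  let u : S := C.u
  let V : WeierstrassCurve S := (⟨1, C.r, C.s, C.t⟩ : VariableChange S) • W.map (algebraMap R S)
  let f := algebraMap R S
  have key : ∀ (i : ℕ) (c : R), D (u ^ i * f c) = ((i : S) * (u ^ i * f c)) • ((((C.u⁻¹ : Sˣ) : S)) • D u) := by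
    intro i c
    rw [D.leibniz, D.leibniz_pow, Derivation.map_algebraMap, smul_zero, zero_add, ← Nat.cast_smul_eq_nsmul S,
      smul_smul, smul_smul, smul_smul]
    congr 1
    rcases Nat.eq_zero_or_pos i with rfl | hi
    · simp
    · obtain ⟨j, rfl⟩ := Nat.exists_eq_succ_of_ne_zero (by omega : i ≠ 0)
      have h1 : u * ((C.u⁻¹ : Sˣ) : S) = 1 := C.u.mul_inv
      rw [Nat.succ_sub_one, pow_succ]
      linear_combination (-(f c * ((j.succ : ℕ) : S) * u ^ j)) * h1
  have hV : V.a₁ = u ^ 1 * f W'.a₁ ∧ V.a₂ = u ^ 2 * f W'.a₂ ∧ V.a₃ = u ^ 3 * f W'.a₃ ∧ V.a₄ = u ^ 4 * f W'.a₄ ∧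
      V.a₆ = u ^ 6 * f W'.a₆ := by
    have hC' : W'.map f = (⟨C.u, 0, 0, 0⟩ : VariableChange S) • V := by
      rw [← mul_smul, ← hC]
      congr 1
      rw [VariableChange.mul_def]
      ext <;> simp
    have h : ∀ i : ℕ, u ^ i * ((C.u⁻¹ : Sˣ) : S) ^ i = 1 := fun i => by
      rw [← mul_pow, C.u.mul_inv, one_pow]
    refine ⟨?_, ?_, ?_, ?_, ?_⟩
    · have := congrArg WeierstrassCurve.a₁ hC'
      simp only [map_a₁, variableChange_a₁, mul_zero, add_zero] at this
      rw [this]; linear_combination -V.a₁ * h 1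
    · have := congrArg WeierstrassCurve.a₂ hC'
      simp only [map_a₂, variableChange_a₂] at this
      rw [this]; linear_combination -V.a₂ * h 2
    · have := congrArg WeierstrassCurve.a₃ hC'
      simp only [map_a₃, variableChange_a₃] at this
      rw [this]; linear_combination -V.a₃ * h 3
    · have := congrArg WeierstrassCurve.a₄ hC'
      simp only [map_a₄, variableChange_a₄] at this
      rw [this]; linear_combination -V.a₄ * h 4
    · have := congrArg WeierstrassCurve.a₆ hC'
      simp only [map_a₆, variableChange_a₆] at this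
      rw [this]; linear_combination -V.a₆ * h 6
  obtain ⟨v1, v2, v3, v4, v6⟩ := hV
  have hD : ∀ c : R, D (f c) = 0 := fun c => Derivation.map_algebraMap _ _
  have h2 : D (2 : S) = 0 := by rw [← map_ofNat (algebraMap R S) 2]; exact hD _
  have h3 : D (3 : S) = 0 := by rw [← map_ofNat (algebraMap R S) 3]; exact hD _
  have g1 := key 1 W'.a₁
  have g2 := key 2 W'.a₂
  have g3 := key 3 W'.a₃
  have g4 := key 4 W'.a₄
  have g6 := key 6 W'.a₆
  rw [← v1] at g1; rw [← v2] at g2; rw [← v3] at g3; rw [← v4] at g4; rw [← v6] at g6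
  have hΔ : IsUnit V.Δ := by
    have hW : IsUnit (W.map f).Δ := by
      have := congrArg WeierstrassCurve.Δ hC
      rw [variableChange_Δ, map_Δ, map_Δ] at this
      rw [map_Δ]
      exact (IsUnit.mul_iff.mp (this ▸ hΔ'.map f)).2
    simp only [V, variableChange_Δ, inv_one, Units.val_one, one_pow, one_mul]
    exact hW
  obtain ⟨z1, z2, z3, z4⟩ := eq_zero_of_lin V hΔ (((C.u⁻¹ : Sˣ) : S) • D u) (D C.r) (D C.s)
    (D C.t - C.s • D C.r)
    (by
      simp only [V, variableChange_a₁, map_a₁, inv_one, Units.val_one, one_mul, map_add, D.leibniz, h2, hD, D.map_algebraMap, D.map_algebraMap,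
        smul_zero, zero_add, add_zero, Nat.cast_one] at g1 ⊢
      exact g1.symm)
    (by
      simp only [V, variableChange_a₁, variableChange_a₂, map_a₁, map_a₂, inv_one, Units.val_one, one_pow, one_mul,
        map_add, map_sub, D.leibniz, D.leibniz_pow, h2, h3, hD, D.map_algebraMap, smul_zero, zero_add, add_zero, Nat.cast_ofNat,
        Nat.succ_sub_one, pow_one, ← Nat.cast_smul_eq_nsmul S] at g2 ⊢
      linear_combination (norm := module) -g2)
    (by
      simp only [V, variableChange_a₁, variableChange_a₃, map_a₁, map_a₃, inv_one, Units.val_one, one_pow, one_mul,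
        map_add, D.leibniz, h2, h3, hD, D.map_algebraMap, smul_zero, zero_add, add_zero, Nat.cast_ofNat] at g3 ⊢
      linear_combination (norm := module) -g3)
    (by
      simp only [V, variableChange_a₁, variableChange_a₂, variableChange_a₃, variableChange_a₄, map_a₁, map_a₂,
        map_a₃, map_a₄, inv_one, Units.val_one, one_pow, one_mul, map_add, map_sub, D.leibniz, D.leibniz_pow, h2, h3,
        hD, D.map_algebraMap, smul_zero, zero_add, add_zero, Nat.cast_ofNat, Nat.succ_sub_one, pow_one,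
        ← Nat.cast_smul_eq_nsmul S] at g4 ⊢
      linear_combination (norm := module) -g4)
    (by
      simp only [V, variableChange_a₁, variableChange_a₂, variableChange_a₃, variableChange_a₄, variableChange_a₆,
        map_a₁, map_a₂, map_a₃, map_a₄, map_a₆, inv_one, Units.val_one, one_pow, one_mul, map_add, map_sub,
        D.leibniz, D.leibniz_pow, h2, h3, hD, D.map_algebraMap, smul_zero, zero_add, add_zero, Nat.cast_ofNat, Nat.succ_sub_one,
        pow_one, ← Nat.cast_smul_eq_nsmul S] at g6 ⊢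
      linear_combination (norm := module) -g6)
  have hu : D u = 0 := by
    have := congrArg (fun x => u • x) z1
    simpa [smul_smul, u] using this
  have hui : D ((C.u⁻¹ : Sˣ) : S) = 0 := by
    have h := D.leibniz u ((C.u⁻¹ : Sˣ) : S)
    rw [show u * ((C.u⁻¹ : Sˣ) : S) = 1 from C.u.mul_inv, Derivation.map_one_eq_zero, hu, smul_zero, add_zero] at h
    have := congrArg (fun x => ((C.u⁻¹ : Sˣ) : S) • x) h
    simpa [smul_smul, u] using this.symm
  have ht : D C.t = 0 := by rwa [z2, smul_zero, sub_zero] at z4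
  have hall : ∀ x : S, D x = 0 := by
    intro x
    have hx : x ∈ Algebra.adjoin R ({(C.u : S), ((C.u⁻¹ : Sˣ) : S), C.r, C.s, C.t} : Set S) := hgen ▸ Algebra.mem_top
    induction hx using Algebra.adjoin_induction with
    | mem y hy => rcases hy with rfl | rfl | rfl | rfl | rfl <;> first | exact hu | exact hui | exact z2 | exact z3 | exact ht
    | algebraMap a => exact hD a
    | add y z _ _ hy hz => rw [map_add, hy, hz, add_zero]
    | mul y z _ _ hy hz => rw [D.leibniz, hy, hz, smul_zero, smul_zero, add_zero]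
  refine ⟨subsingleton_of_forall_eq 0 fun ω => ?_⟩
  have hω : ω ∈ Submodule.span S (Set.range D) := (KaehlerDifferential.span_range_derivation R S).symm ▸ Submodule.mem_top
  induction hω using Submodule.span_induction with
  | mem y hy => obtain ⟨x, rfl⟩ := hy; exact hall x
  | zero => rfl
  | add y z _ _ hy hz => rw [hy, hz, add_zero]
  | smul a y _ hy => rw [hy, smul_zero]

theorem exists_variableChange {R : Type u} [CommRing R] [IsDomain R] [HenselianLocalRing R]
    [IsAlgClosed (IsLocalRing.ResidueField R)] (W₁ W₂ : WeierstrassCurve R) [W₁.IsElliptic] [W₂.IsElliptic]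
    (hj : W₁.j = W₂.j) : ∃ C : VariableChange R, C • W₁ = W₂ := by
  classical
  let K := AlgebraicClosure (FractionRing R)
  let f := algebraMap R K
  have hf : Function.Injective f := by
    rw [show f = (algebraMap (FractionRing R) K).comp (algebraMap R (FractionRing R)) from
      IsScalarTower.algebraMap_eq R (FractionRing R) K]
    exact (algebraMap (FractionRing R) K).injective.comp (IsFractionRing.injective R (FractionRing R))
  obtain ⟨C, hC⟩ := WeierstrassCurve.exists_variableChange_of_j_eq (W₁.map f) (W₂.map f)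
    (by rw [map_j, map_j, hj])
  have hR : ∀ a : R, IsIntegral R (f a) := fun _ => isIntegral_algebraMap
  have hadd : ∀ {x y : K}, IsIntegral R x → IsIntegral R y → IsIntegral R (x + y) := fun hx hy => hx.add hy
  have hu12 : (C.u : K) ^ 12 * f W₂.Δ = f W₁.Δ := by
    have h := congrArg WeierstrassCurve.Δ hC
    rw [variableChange_Δ, map_Δ, map_Δ] at h
    rw [← h, ← mul_assoc, ← mul_pow, Units.mul_inv, one_pow, one_mul]
  have hu : IsIntegral R (C.u : K) := by
    refine IsIntegral.of_pow (n := 12) (by norm_num) ?_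
    obtain ⟨d, hd⟩ := W₂.isUnit_Δ
    rw [show (C.u : K) ^ 12 = f (W₁.Δ * ((d⁻¹ : Rˣ) : R)) by
      rw [map_mul, ← hu12, mul_assoc, ← map_mul, ← hd, Units.mul_inv, map_one, mul_one]]
    exact hR _
  have hui : IsIntegral R ((C.u⁻¹ : Kˣ) : K) := by
    refine IsIntegral.of_pow (n := 12) (by norm_num) ?_
    obtain ⟨d, hd⟩ := W₁.isUnit_Δ
    rw [show ((C.u⁻¹ : Kˣ) : K) ^ 12 = f (W₂.Δ * ((d⁻¹ : Rˣ) : R)) by
      have h1 : ((C.u⁻¹ : Kˣ) : K) ^ 12 * (C.u : K) ^ 12 = 1 := by rw [← mul_pow, Units.inv_mul, one_pow]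
      have h2 : f W₁.Δ * f ((d⁻¹ : Rˣ) : R) = 1 := by rw [← map_mul, ← hd, Units.mul_inv, map_one]
      rw [map_mul]
      linear_combination (f W₂.Δ * f ((d⁻¹ : Rˣ) : R)) * h1 - ((C.u⁻¹ : Kˣ) : K) ^ 12 * h2 -
        ((C.u⁻¹ : Kˣ) : K) ^ 12 * f ((d⁻¹ : Rˣ) : R) * hu12]
    exact hR _
  have hpow : ∀ i : ℕ, (C.u : K) ^ i * ((C.u⁻¹ : Kˣ) : K) ^ i = 1 := fun i => by
    rw [← mul_pow, Units.mul_inv, one_pow]
  let O := integralClosure R K
  have hO : ∀ {z : K} (p : Polynomial O), p.Monic → Polynomial.aeval z p = 0 → IsIntegral R z :=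
    fun p hp hz => isIntegral_trans _ ⟨p, hp, hz⟩
  have hquad : ∀ {z b c : K}, IsIntegral R b → IsIntegral R c → z ^ 2 + b * z + c = 0 → IsIntegral R z := by
    intro z b c hb hc hz
    refine hO (Polynomial.X ^ 2 + Polynomial.C (⟨b, hb⟩ : O) * Polynomial.X + Polynomial.C (⟨c, hc⟩ : O))
      (by monicity!) ?_
    simp only [map_add, map_pow, map_mul, Polynomial.aeval_X, Polynomial.aeval_C]
    exact hz
  have hr : IsIntegral R C.r := by
    have e6 := congrArg WeierstrassCurve.b₆ hC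
    have e8 := congrArg WeierstrassCurve.b₈ hC
    rw [variableChange_b₆, map_b₆, map_b₆, map_b₂, map_b₄] at e6
    rw [variableChange_b₈, map_b₈, map_b₈, map_b₂, map_b₄, map_b₆] at e8
    let b : O := ⟨-(f W₁.b₄), (hR _).neg⟩
    let c' : O := ⟨-(2 * f W₁.b₆ + (C.u : K) ^ 6 * f W₂.b₆), by
      rw [← map_ofNat f 2]
      exact (hadd ((hR _).mul (hR _)) ((hu.pow _).mul (hR _))).neg⟩
    let d : O := ⟨(C.u : K) ^ 8 * f W₂.b₈ - f W₁.b₈, ((hu.pow _).mul (hR _)).sub (hR _)⟩
    refine hO (Polynomial.X ^ 4 + Polynomial.C b * Polynomial.X ^ 2 + Polynomial.C c' * Polynomial.X + Polynomial.C d)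
      (by monicity!) ?_
    simp only [map_add, map_pow, map_mul, Polynomial.aeval_X, Polynomial.aeval_C]
    change C.r ^ 4 + -(f W₁.b₄) * C.r ^ 2 + -(2 * f W₁.b₆ + (C.u : K) ^ 6 * f W₂.b₆) * C.r +
      ((C.u : K) ^ 8 * f W₂.b₈ - f W₁.b₈) = 0
    linear_combination -(C.u : K) ^ 8 * e8 + C.r * (C.u : K) ^ 6 * e6 +
      (f W₁.b₈ + 3 * C.r * f W₁.b₆ + 3 * C.r ^ 2 * f W₁.b₄ + C.r ^ 3 * f W₁.b₂ + 3 * C.r ^ 4) * hpow 8 -
      C.r * (f W₁.b₆ + 2 * C.r * f W₁.b₄ + C.r ^ 2 * f W₁.b₂ + 4 * C.r ^ 3) * hpow 6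
  have hs : IsIntegral R C.s := by
    have e2 := congrArg WeierstrassCurve.a₂ hC
    rw [variableChange_a₂, map_a₁, map_a₂, map_a₂] at e2
    refine hquad (b := f W₁.a₁) (c := (C.u : K) ^ 2 * f W₂.a₂ - f W₁.a₂ - 3 * C.r) (hR _)
      ((((hu.pow _).mul (hR _)).sub (hR _)).sub (by rw [← map_ofNat f 3]; exact (hR _).mul hr)) ?_
    linear_combination -(C.u : K) ^ 2 * e2 + (f W₁.a₂ - C.s * f W₁.a₁ + 3 * C.r - C.s ^ 2) * hpow 2
  have ht : IsIntegral R C.t := by
    have e6 := congrArg WeierstrassCurve.a₆ hC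
    rw [variableChange_a₆, map_a₁, map_a₂, map_a₃, map_a₄, map_a₆, map_a₆] at e6
    refine hquad (b := f W₁.a₃ + C.r * f W₁.a₁)
      (c := (C.u : K) ^ 6 * f W₂.a₆ - f W₁.a₆ - C.r * f W₁.a₄ - C.r ^ 2 * f W₁.a₂ - C.r ^ 3)
      (hadd (hR _) (hr.mul (hR _)))
      ((((((hu.pow _).mul (hR _)).sub (hR _)).sub (hr.mul (hR _))).sub ((hr.pow _).mul (hR _))).sub (hr.pow _)) ?_
    linear_combination -(C.u : K) ^ 6 * e6 + (f W₁.a₆ + C.r * f W₁.a₄ + C.r ^ 2 * f W₁.a₂ + C.r ^ 3 -
      C.t * f W₁.a₃ - C.t ^ 2 - C.r * C.t * f W₁.a₁) * hpow 6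
  let G : Set K := {(C.u : K), ((C.u⁻¹ : Kˣ) : K), C.r, C.s, C.t}
  let S := Algebra.adjoin R G
  haveI : Module.Finite R S := Module.Finite.iff_fg.mpr
    (fg_adjoin_of_finite (Set.toFinite G) (by rintro x (rfl | rfl | rfl | rfl | rfl) <;> assumption))
  have hmem : ∀ x ∈ G, x ∈ S := fun x hx => Algebra.subset_adjoin hx
  let Cs : VariableChange S :=
    { u := ⟨⟨C.u, hmem _ (by simp [G])⟩, ⟨((C.u⁻¹ : Kˣ) : K), hmem _ (by simp [G])⟩,
        Subtype.ext C.u.mul_inv, Subtype.ext C.u.inv_mul⟩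
      r := ⟨C.r, hmem _ (by simp [G])⟩
      s := ⟨C.s, hmem _ (by simp [G])⟩
      t := ⟨C.t, hmem _ (by simp [G])⟩ }
  have hCs : Cs.map S.val.toRingHom = C := by
    ext <;> rfl
  have hCW : Cs • W₁.map (algebraMap R S) = W₂.map (algebraMap R S) := by
    apply WeierstrassCurve.map_injective (f := S.val.toRingHom) Subtype.val_injective
    change (Cs • W₁.map (algebraMap R S)).map S.val.toRingHom = (W₂.map (algebraMap R S)).map S.val.toRingHom
    rw [← map_variableChange, hCs, WeierstrassCurve.map_map, WeierstrassCurve.map_map,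
      show S.val.toRingHom.comp (algebraMap R S) = f from RingHom.ext fun _ => rfl]
    exact hC
  have hgen : Algebra.adjoin R ({(Cs.u : S), ((Cs.u⁻¹ : Sˣ) : S), Cs.r, Cs.s, Cs.t} : Set S) = ⊤ := by
    apply Subalgebra.map_injective (f := S.val) Subtype.val_injective
    rw [AlgHom.map_adjoin, Algebra.map_top, Subalgebra.range_val]
    congr 1
    rw [Set.image_insert_eq, Set.image_insert_eq, Set.image_insert_eq, Set.image_insert_eq, Set.image_singleton]
    rfl
  haveI := formallyUnramified_of_eq W₁ W₂ W₂.isUnit_Δ Cs hCW hgen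
  obtain ⟨q, hq⟩ := Ideal.exists_maximal S
  haveI : q.LiesOver (IsLocalRing.maximalIdeal R) :=
    ⟨((IsLocalRing.eq_maximalIdeal (Ideal.isMaximal_comap_of_isIntegral_of_isMaximal q)).symm : _)⟩
  haveI : Module.Finite R (Localization.AtPrime q) := Groth.Agent.Hensel.finite_atPrime R S q
  haveI : Algebra.FormallyUnramified S (Localization.AtPrime q) :=
    Algebra.FormallyUnramified.of_isLocalization q.primeCompl
  haveI : Algebra.FormallyUnramified R (Localization.AtPrime q) := Algebra.FormallyUnramified.comp R S _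
  have hsur := Groth.Agent.Hensel.surjective_of_isLocalRing_unramified R (Localization.AtPrime q)
  have hS : Function.Surjective (algebraMap R S) := by
    intro x
    obtain ⟨a, ha⟩ := hsur (algebraMap S _ x)
    refine ⟨a, IsLocalization.injective (Localization.AtPrime q) q.primeCompl_le_nonZeroDivisors ?_⟩
    rw [← IsScalarTower.algebraMap_apply, ha]
  have hbij : Function.Bijective (algebraMap R S) :=
    ⟨fun a b h => hf (congrArg (fun z : S => (z : K)) h), hS⟩
  let e := RingEquiv.ofBijective (algebraMap R S) hbij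
  refine ⟨Cs.map e.symm.toRingHom, ?_⟩
  apply WeierstrassCurve.map_injective (f := algebraMap R S) hbij.1
  change (Cs.map e.symm.toRingHom • W₁).map (algebraMap R S) = W₂.map (algebraMap R S)
  rw [← map_variableChange, VariableChange.map_map,
    show (algebraMap R S).comp e.symm.toRingHom = RingHom.id S from RingHom.ext fun x => e.apply_symm_apply x,
    VariableChange.map_id]
  exact hCW

end Groth.Agent.WeierRigid
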